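import Mathlib
/-!
# Immersions into affine schemes survive restriction to finitely many coordinates
-/

set_option autoImplicit false
set_option backward.isDefEq.respectTransparency false
set_option backward.isDefEq.respectTransparency.types false
universe u
open CategoryTheory CategoryTheory.Limits AlgebraicGeometry TopologicalSpace TensorProduct

namespace AlgSpAffImmLib

theorem surjective_appTop_restrict_iff {X Y : Scheme.{u}} (f : X ⟶ Y) (U : Y.Opens) :
    Function.Surjective (f ∣_ U).appTop ↔ Function.Surjective (f.app U) := by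
  rw [morphismRestrict_appTop]
  have key : ∀ (U' : Y.Opens) (W : X.Opens) (e : W = f ⁻¹ᵁ U'), U' = U →
      (Function.Surjective (f.app U' ≫ X.presheaf.map (eqToHom e).op) ↔ Function.Surjective (f.app U)) := by
    rintro U' W rfl rfl
    simp
  exact key _ _ _ U.ι_image_top

theorem exists_finset_immersion {W Y Z : Scheme.{u}} [IsAffine Y] [IsAffine Z] [CompactSpace W]
    (e : W ⟶ Y) [IsImmersion e] (π : Y ⟶ Z) [LocallyOfFiniteType (e ≫ π)] :
    ∃ G : Finset Γ(Y, ⊤), ∀ (Y' : Scheme.{u}) [IsAffine Y'] (f : Y ⟶ Y') (π' : Y' ⟶ Z), f ≫ π' = π →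
      ↑G ⊆ Set.range f.appTop → IsImmersion (e ≫ f) := by
  classical
  -- basic opens on which the immersion is closed
  have h1 : ∀ w : W, ∃ h : Γ(Y, ⊤), e w ∈ Y.basicOpen h ∧ IsClosedImmersion (e ∣_ Y.basicOpen h) := by
    intro w
    obtain ⟨O, hO, hcl⟩ : ∃ O : Set Y, IsOpen O ∧ e w ∈ O ∧ IsClosed (Subtype.val ⁻¹' Set.range e : Set O) := by
      have h := e.isLocallyClosed_range
      exact ⟨coborder (Set.range e), h.isOpen_coborder, subset_coborder ⟨w, rfl⟩, isClosed_preimage_val_coborder⟩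
    obtain ⟨_, ⟨_, ⟨h, rfl⟩, rfl⟩, hwh, hsub⟩ :=
      (isBasis_basicOpen Y).exists_subset_of_mem_open hcl.1 hO
    refine ⟨h, hwh, ?_⟩
    haveI : IsPreimmersion (e ∣_ Y.basicOpen h) := inferInstance
    refine .of_isPreimmersion _ ?_
    have : Set.range (e ∣_ Y.basicOpen h) = (fun y : ↥(Y.basicOpen h : Set Y) => (y : Y)) ⁻¹' Set.range e := by
      ext y
      constructor
      · rintro ⟨x, rfl⟩
        exact ⟨x.1, (morphismRestrict_base_coe e _ x).symm⟩
      · rintro ⟨x, hx⟩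
        exact ⟨⟨x, show e x ∈ Y.basicOpen h from hx ▸ y.2⟩,
          Subtype.ext ((morphismRestrict_base_coe e _ _).trans hx)⟩
    rw [this]
    have h2 := hcl.2.preimage (continuous_inclusion hsub)
    exact h2
  choose h hwh hcl using h1
  obtain ⟨t, ht⟩ := isCompact_univ.elim_finite_subcover (fun w => e ⁻¹' (Y.basicOpen (h w) : Set Y))
    (fun w => (Y.basicOpen (h w)).2.preimage e.continuous) fun w _ => Set.mem_iUnion.2 ⟨w, hwh w⟩
  -- generators of the finite type algebras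
  have h2 : ∀ w : W, ∃ G : Finset Γ(Y, ⊤), ∀ (Y' : Scheme.{u}) [IsAffine Y'] (f : Y ⟶ Y') (π' : Y' ⟶ Z),
      f ≫ π' = π → ↑G ⊆ Set.range f.appTop → ∀ h' : Γ(Y', ⊤), f.appTop h' = h w →
        IsClosedImmersion ((e ≫ f) ∣_ Y'.basicOpen h') := by
    intro w
    set D := Y.basicOpen (h w) with hD
    haveI := hcl w
    haveI : IsAffine (D : Scheme) := (isAffineOpen_top Y).basicOpen (h w)
    obtain ⟨hWa, hsurj⟩ := IsClosedImmersion.isAffine_surjective_of_isAffine (e ∣_ D)
    rw [surjective_appTop_restrict_iff] at hsurj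
    have hWa' : IsAffineOpen (e ⁻¹ᵁ D) := hWa
    have hft := (e ≫ π).finiteType_appLE (isAffineOpen_top Z) hWa' le_top
    obtain ⟨G₀, hG₀⟩ := hft
    letI := ((isAffineOpen_top Y).isLocalization_basicOpen (h w))
    have hpre : ∀ q : Γ(W, e ⁻¹ᵁ D), ∃ (g : Γ(Y, ⊤)) (k : ℕ),
        q * e.appLE ⊤ (e ⁻¹ᵁ D) le_top (h w) ^ k = e.appLE ⊤ (e ⁻¹ᵁ D) le_top g := by
      intro q
      obtain ⟨a, rfl⟩ := hsurj q
      obtain ⟨⟨g, _, k, rfl⟩, hg⟩ := IsLocalization.surj (Submonoid.powers (h w)) a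
      refine ⟨g, k, ?_⟩
      have := congrArg (e.app D) hg
      simp only [map_mul, map_pow, RingHom.algebraMap_toAlgebra] at this
      rw [← Scheme.Hom.map_appLE e (show e ⁻¹ᵁ D ≤ e ⁻¹ᵁ D from le_rfl) (homOfLE le_top).op]
      simp only [CommRingCat.hom_comp, RingHom.comp_apply, Scheme.Hom.appLE_eq_app] at this ⊢
      exact this
    choose g k hk using hpre
    refine ⟨G₀.image g ∪ {h w}, fun Y' _ f π' hπ hG h' hh' => ?_⟩
    haveI : IsAffine (Y'.basicOpen h' : Scheme) := (isAffineOpen_top Y').basicOpen h'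
    set D' := Y'.basicOpen h' with hD'
    have hDD : f ⁻¹ᵁ D' = D := by rw [hD', Scheme.preimage_basicOpen_top, hh']
    have hpreim : (e ≫ f) ⁻¹ᵁ D' = e ⁻¹ᵁ D := by rw [Scheme.Hom.comp_preimage, hDD]
    haveI : IsAffine ((e ≫ f) ⁻¹ᵁ D' : Scheme) := by rw [hpreim]; exact hWa
    refine IsClosedImmersion.of_surjective_of_isAffine _ ((surjective_appTop_restrict_iff _ _).2 ?_)
    suffices hs : Function.Surjective ((e ≫ f).appLE D' (e ⁻¹ᵁ D) hpreim.ge) by
      intro q
      obtain ⟨p, hp⟩ := hs (W.presheaf.map (eqToHom hpreim.symm).op q)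
      refine ⟨p, ?_⟩
      apply (ConcreteCategory.bijective_of_isIso (W.presheaf.map (eqToHom hpreim.symm).op)).1
      rw [← hp]
      rfl
    set ψ := (e ≫ f).appLE D' (e ⁻¹ᵁ D) hpreim.ge with hψ
    let rD : Γ(Y', ⊤) ⟶ Γ(Y', D') := Y'.presheaf.map (homOfLE le_top).op
    have hrD : rD ≫ ψ = f.appTop ≫ e.appLE ⊤ (e ⁻¹ᵁ D) le_top := by
      rw [Scheme.Hom.map_appLE, Scheme.Hom.comp_appLE]
      rfl
    have hrange : ∀ g ∈ Set.range f.appTop, e.appLE ⊤ (e ⁻¹ᵁ D) le_top g ∈ Set.range ψ := by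
      rintro _ ⟨g', rfl⟩
      exact ⟨rD g', congrArg (fun m => m.hom g') hrD⟩
    have hπr : ∀ z, (e ≫ π).appLE ⊤ (e ⁻¹ᵁ D) le_top z ∈ ψ.hom.range := fun z => by
      refine ⟨rD (π'.appTop z), ?_⟩
      have e1 := congrArg (fun m => m.hom (π'.appTop z)) hrD
      simp only [CommRingCat.hom_comp, RingHom.comp_apply] at e1
      rw [e1]
      subst hπ
      rw [Scheme.Hom.comp_appLE]
      rfl
    -- the inverse of the basic function
    have hu : IsUnit (rD h') := by
      letI := ((isAffineOpen_top Y').isLocalization_basicOpen h')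
      exact IsLocalization.map_units (M := Submonoid.powers h') Γ(Y', D') ⟨h', 1, pow_one h'⟩
    obtain ⟨v, hv⟩ := hu.exists_right_inv
    have hgen : ∀ q ∈ G₀, q ∈ ψ.hom.range := by
      intro q hq
      obtain ⟨a, ha⟩ := hrange (g q) (hG (Finset.mem_coe.2 (Finset.mem_union_left _ (Finset.mem_image_of_mem g hq))))
      have e1 : ψ (rD h') = e.appLE ⊤ (e ⁻¹ᵁ D) le_top (h w) := by
        rw [← hh']; exact congrArg (fun m => m.hom h') hrD
      refine ⟨a * v ^ k q, ?_⟩
      rw [map_mul, map_pow, show ψ.hom a = e.appLE ⊤ (e ⁻¹ᵁ D) le_top (g q) from ha, ← hk q, ← e1, mul_assoc,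
        ← mul_pow, ← map_mul, hv, map_one, one_pow, mul_one]
    algebraize [((e ≫ π).appLE ⊤ (e ⁻¹ᵁ D) le_top).hom]
    let B : Subalgebra Γ(Z, ⊤) Γ(W, e ⁻¹ᵁ D) := { ψ.hom.range with algebraMap_mem' := hπr }
    have hB : B = ⊤ := top_le_iff.1 (hG₀ ▸ Algebra.adjoin_le fun q hq => hgen q hq)
    intro q
    exact (hB ▸ Algebra.mem_top : q ∈ B)
  choose G hG using h2
  refine ⟨t.biUnion G ∪ t.image h, fun Y' _ f π' hπ hsub => ?_⟩
  have hh : ∀ w ∈ t, ∃ h' : Γ(Y', ⊤), f.appTop h' = h w := fun w hw =>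
    hsub (Finset.mem_coe.2 (Finset.mem_union_right _ (Finset.mem_image_of_mem h hw)))
  choose h' hh' using hh
  let O : Y'.Opens := ⨆ w : t, Y'.basicOpen (h' w.1 w.2)
  have hO : (e ≫ f) ⁻¹ᵁ O = ⊤ := top_le_iff.1 fun x _ => by
    obtain ⟨w, hw, hx⟩ := Set.mem_iUnion₂.1 (ht (Set.mem_univ x))
    refine Opens.mem_iSup.2 ⟨⟨w, hw⟩, ?_⟩
    show e x ∈ f ⁻¹ᵁ Y'.basicOpen (h' w hw)
    rw [Scheme.preimage_basicOpen_top, hh']
    exact hx
  have hres : IsImmersion ((e ≫ f) ∣_ O) := by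
    refine IsZariskiLocalAtTarget.of_iSup_eq_top (P := @IsImmersion)
      (fun w : t => O.ι ⁻¹ᵁ Y'.basicOpen (h' w.1 w.2)) ?_ fun w => ?_
    · ext x
      simp only [Opens.coe_top, Set.mem_univ, iff_true, SetLike.mem_coe]
      obtain ⟨w, hw⟩ := Opens.mem_iSup.1 x.2
      exact Opens.mem_iSup.2 ⟨w, hw⟩
    · haveI := hG w.1 Y' f π' hπ (fun g hg => hsub (Finset.mem_coe.2 (Finset.mem_union_left _
        (Finset.mem_biUnion.2 ⟨w.1, w.2, hg⟩)))) _ (hh' w.1 w.2)
      have hle : Y'.basicOpen (h' w.1 w.2) ≤ O := le_iSup (fun w : t => Y'.basicOpen (h' w.1 w.2)) w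
      have : O.ι ''ᵁ (O.ι ⁻¹ᵁ Y'.basicOpen (h' w.1 w.2)) = Y'.basicOpen (h' w.1 w.2) := by
        rw [Scheme.Hom.image_preimage_eq_opensRange_inf, Scheme.Opens.opensRange_ι, inf_eq_right.2 hle]
      rw [MorphismProperty.arrow_mk_iso_iff @IsImmersion (morphismRestrictRestrict (e ≫ f) O _ ≪≫
        morphismRestrictEq _ this)]
      infer_instance
  haveI := hres
  haveI : IsIso ((e ≫ f) ⁻¹ᵁ O).ι := by rw [hO, ← Scheme.topIso_hom]; infer_instance
  haveI : IsImmersion (inv ((e ≫ f) ⁻¹ᵁ O).ι ≫ ((e ≫ f) ∣_ O) ≫ O.ι) := inferInstance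
  rwa [morphismRestrict_ι, IsIso.inv_hom_id_assoc] at this

/-- An element of a tensor product involves finitely many elements of the left factor. -/
theorem exists_finset_mem_closure {R A B : Type u} [CommRing R] [CommRing A] [CommRing B] [Algebra R A]
    [Algebra R B] (x : A ⊗[R] B) :
    ∃ s : Finset A, x ∈ Subring.closure (Set.range (Algebra.TensorProduct.includeRight (R := R) (A := A) (B := B)) ∪
      (fun a : A => a ⊗ₜ[R] (1 : B)) '' ↑s) := by
  classical
  induction x using TensorProduct.induction_on with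
  | zero => exact ⟨∅, zero_mem _⟩
  | tmul a b =>
    refine ⟨{a}, ?_⟩
    rw [show a ⊗ₜ[R] b = (a ⊗ₜ[R] (1 : B)) * ((1 : A) ⊗ₜ[R] b) from by
      rw [Algebra.TensorProduct.tmul_mul_tmul, mul_one, one_mul]]
    exact mul_mem (Subring.subset_closure (Or.inr ⟨a, Finset.mem_singleton_self a, rfl⟩))
      (Subring.subset_closure (Or.inl ⟨b, rfl⟩))
  | add x y hx hy =>
    obtain ⟨s, hs⟩ := hx
    obtain ⟨s', hs'⟩ := hy
    refine ⟨s ∪ s', add_mem (Subring.closure_mono ?_ hs) (Subring.closure_mono ?_ hs')⟩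
    · exact Set.union_subset_union_right _ (Set.image_mono (Finset.coe_subset.2 Finset.subset_union_left))
    · exact Set.union_subset_union_right _ (Set.image_mono (Finset.coe_subset.2 Finset.subset_union_right))

/-- An immersion of a quasi-compact scheme into a product of affine schemes, locally of finite type over the
second factor, needs only finitely many functions of the first factor. -/
theorem exists_finset_immersion_tensor (R A B : Type u) [CommRing R] [CommRing A] [CommRing B] [Algebra R A]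
    [Algebra R B] {W : Scheme.{u}} [CompactSpace W] (e : W ⟶ Spec (CommRingCat.of (A ⊗[R] B))) [IsImmersion e]
    [LocallyOfFiniteType (e ≫ Spec.map (CommRingCat.ofHom
      (Algebra.TensorProduct.includeRight (R := R) (A := A) (B := B)).toRingHom))] :
    ∃ s : Finset A, ∀ (σ : Type u) (v : σ → A), (↑s ⊆ Set.range v) →
      IsImmersion (e ≫ Spec.map (CommRingCat.ofHom (MvPolynomial.eval₂Hom
        (Algebra.TensorProduct.includeRight (R := R) (A := A) (B := B)).toRingHom
        (fun i => v i ⊗ₜ[R] (1 : B))))) := by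
  classical
  obtain ⟨G, hG⟩ := exists_finset_immersion e (Spec.map (CommRingCat.ofHom
      (Algebra.TensorProduct.includeRight (R := R) (A := A) (B := B)).toRingHom))
  choose s hs using fun g : Γ(Spec (CommRingCat.of (A ⊗[R] B)), ⊤) =>
    exists_finset_mem_closure ((Scheme.ΓSpecIso (CommRingCat.of (A ⊗[R] B))).hom g)
  refine ⟨G.biUnion s, fun σ v hv => ?_⟩
  set φ := MvPolynomial.eval₂Hom (Algebra.TensorProduct.includeRight (R := R) (A := A) (B := B)).toRingHom
        (fun i => v i ⊗ₜ[R] (1 : B)) with hφ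
  refine hG _ (Spec.map (CommRingCat.ofHom φ)) (Spec.map (CommRingCat.ofHom (MvPolynomial.C))) ?_ fun g hg => ?_
  · rw [← Spec.map_comp]
    congr 1
    ext b
    exact MvPolynomial.eval₂Hom_C _ _ b
  · have hle : Subring.closure (Set.range (Algebra.TensorProduct.includeRight (R := R) (A := A) (B := B)) ∪
        (fun a : A => a ⊗ₜ[R] (1 : B)) '' ↑(s g)) ≤ φ.range := by
      refine Subring.closure_le.2 (Set.union_subset ?_ ?_)
      · rintro _ ⟨b, rfl⟩
        exact ⟨MvPolynomial.C b, MvPolynomial.eval₂Hom_C _ _ b⟩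
      · rintro _ ⟨a, ha, rfl⟩
        obtain ⟨i, rfl⟩ := hv (Finset.mem_biUnion.2 ⟨g, hg, ha⟩)
        exact ⟨MvPolynomial.X i, MvPolynomial.eval₂Hom_X' _ _ i⟩
    obtain ⟨q, hq⟩ := hle (hs g)
    refine ⟨(Scheme.ΓSpecIso _).inv q, ?_⟩
    apply (ConcreteCategory.bijective_of_isIso (Scheme.ΓSpecIso (CommRingCat.of (A ⊗[R] B))).hom).1
    rw [← hq]
    have := Scheme.ΓSpecIso_naturality (CommRingCat.ofHom φ)
    refine (congrArg (fun m => m.hom ((Scheme.ΓSpecIso _).inv q)) this).trans ?_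
    show φ ((Scheme.ΓSpecIso (CommRingCat.of (MvPolynomial σ B))).hom ((Scheme.ΓSpecIso _).inv q)) = φ q
    exact congrArg φ ((Scheme.ΓSpecIso (CommRingCat.of (MvPolynomial σ B))).inv_hom_id_apply q)

/-- The ring map of a morphism to an affine spectrum. -/
noncomputable abbrev η {X : Scheme.{u}} {R : CommRingCat.{u}} (h : X ⟶ Spec R) : R ⟶ Γ(X, ⊤) :=
  (Scheme.ΓSpecIso R).inv ≫ h.appTop

theorem η_comp_specMap {X : Scheme.{u}} {R R' : CommRingCat.{u}} (h : X ⟶ Spec R) (φ : R' ⟶ R) :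
    η (h ≫ Spec.map φ) = φ ≫ η h := by
  simp only [η, Scheme.Hom.comp_appTop]
  rw [← Scheme.ΓSpecIso_inv_naturality_assoc]

theorem η_comp {X Y : Scheme.{u}} {R : CommRingCat.{u}} (g : X ⟶ Y) (h : Y ⟶ Spec R) :
    η (g ≫ h) = η h ≫ g.appTop := by
  simp [η]

theorem η_toSpecΓ (X : Scheme.{u}) : η X.toSpecΓ = 𝟙 _ := by
  simp [η, Scheme.toSpecΓ_appTop]

theorem eq_toSpecΓ_η {X : Scheme.{u}} {R : CommRingCat.{u}} (h : X ⟶ Spec R) : h = X.toSpecΓ ≫ Spec.map (η h) := by
  rw [η, Spec.map_comp, ← Scheme.toSpecΓ_naturality_assoc, ← SpecMap_ΓSpecIso_hom, ← Spec.map_comp,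
    Iso.inv_hom_id, Spec.map_id, Category.comp_id]

/-- An immersion into the product of two affine schemes gives immersions into affine spaces over the second factor. -/
theorem exists_finset_immersion_pullback (R A B : Type u) [CommRing R] [CommRing A] [CommRing B] [Algebra R A]
    [Algebra R B] {W : Scheme.{u}} [CompactSpace W]
    (c : W ⟶ pullback (Spec.map (CommRingCat.ofHom (algebraMap R A))) (Spec.map (CommRingCat.ofHom (algebraMap R B))))
    [IsImmersion c] (rA : W ⟶ Spec (CommRingCat.of A)) (rB : W ⟶ Spec (CommRingCat.of B))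
    (hA : c ≫ pullback.fst _ _ = rA) (hB : c ≫ pullback.snd _ _ = rB) [LocallyOfFiniteType rB] :
    ∃ s : Finset A, ∀ (σ : Type u) (v : σ → A), ↑s ⊆ Set.range v →
      ∀ k : W ⟶ Spec (CommRingCat.of (MvPolynomial σ B)),
        (∀ b : B, η k (MvPolynomial.C b) = η rB b) → (∀ i, η k (MvPolynomial.X i) = η rA (v i)) →
          IsImmersion k := by
  let e : W ⟶ Spec (CommRingCat.of (A ⊗[R] B)) := c ≫ (pullbackSpecIso R A B).hom
  have he1 : e ≫ Spec.map (CommRingCat.ofHom (Algebra.TensorProduct.includeLeftRingHom : A →+* A ⊗[R] B)) = rA := by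
    rw [Category.assoc, pullbackSpecIso_hom_fst]; exact hA
  have he2 : e ≫ Spec.map (CommRingCat.ofHom
      (Algebra.TensorProduct.includeRight (R := R) (A := A) (B := B)).toRingHom) = rB := by
    rw [Category.assoc, ← hB]
    exact congrArg (c ≫ ·) (pullbackSpecIso_hom_snd R A B)
  haveI : LocallyOfFiniteType (e ≫ Spec.map (CommRingCat.ofHom
      (Algebra.TensorProduct.includeRight (R := R) (A := A) (B := B)).toRingHom)) := by
    rw [he2]; infer_instance
  haveI : IsImmersion e := inferInstance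
  obtain ⟨s, hs⟩ := exists_finset_immersion_tensor R A B e
  refine ⟨s, fun σ v hv k hC hX => ?_⟩
  suffices key : k = e ≫ Spec.map (CommRingCat.ofHom (MvPolynomial.eval₂Hom
      (Algebra.TensorProduct.includeRight (R := R) (A := A) (B := B)).toRingHom (fun i => v i ⊗ₜ[R] (1 : B)))) by
    rw [key]; exact hs σ v hv
  rw [eq_toSpecΓ_η k, eq_toSpecΓ_η (e ≫ _), η_comp_specMap]
  refine congrArg (fun r => W.toSpecΓ ≫ Spec.map r) (CommRingCat.hom_ext ?_)
  refine MvPolynomial.ringHom_ext (fun b => ?_) (fun i => ?_)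
  · show η k (MvPolynomial.C b) = η e (MvPolynomial.eval₂Hom _ _ (MvPolynomial.C b))
    rw [MvPolynomial.eval₂Hom_C]
    refine (hC b).trans ?_
    rw [← he2, η_comp_specMap]
    rfl
  · show η k (MvPolynomial.X i) = η e (MvPolynomial.eval₂Hom _ _ (MvPolynomial.X i))
    rw [MvPolynomial.eval₂Hom_X']
    refine (hX i).trans ?_
    rw [← he1, η_comp_specMap]
    rfl

end AlgSpAffImmLib
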